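import Groth.Agent.RegConLib.Pair
import Groth.Agent.RegImmKindLib.Codim
import Groth.Agent.HodgePnLib.Seq
import Groth.Agent.S9371
import Groth.Agent.S9372
import Groth.Prelude.Def_Canon

/-!
# Canonical sheaves and open immersions
-/

set_option autoImplicit false
set_option linter.style.haveILetI false
set_option linter.unusedSectionVars false
set_option maxHeartbeats 1000000
set_option backward.isDefEq.respectTransparency false
set_option backward.isDefEq.respectTransparency.types false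
universe u

open CategoryTheory CategoryTheory.Limits AlgebraicGeometry TopologicalSpace Opposite RingTheory.Sequence IsLocalRing
open RegImmKindLib (ker_stalkMap isRegular_of_seq exists_away_seq')

noncomputable section

namespace CanonRestrLib

variable {U X Z : Scheme.{u}} (j : U ⟶ X) [IsOpenImmersion j] (i : X ⟶ Z) [IsLocallyNoetherian Z] {c : ℕ}

theorem regCodim_comp (hi : RegImm.IsRegularImmersionOfCodim RegImm.Kind.regular c i) :
    RegImm.IsRegularImmersionOfCodim RegImm.Kind.regular c (j ≫ i) := by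
  haveI := hi.1
  refine ⟨inferInstance, fun u => ?_⟩
  obtain ⟨⟨U₀, hU₀⟩, hzU₀, hcl, rs₀, hlen, hrs₀, hker₀⟩ := hi.2 (j u)
  obtain ⟨hV₀, hs₀⟩ := (KRLib.isClosedImmersion_restrict_iff i hU₀).1 hcl
  haveI : IsNoetherianRing Γ(Z, U₀) := IsLocallyNoetherian.component_noetherian ⟨U₀, hU₀⟩
  letI := Z.presheaf.algebra_section_stalk (⟨i (j u), hzU₀⟩ : U₀)
  haveI : IsLocalization.AtPrime (Z.presheaf.stalk (i (j u))) (hU₀.primeIdealOf ⟨i (j u), hzU₀⟩).asIdeal :=
    hU₀.isLocalization_stalk ⟨i (j u), hzU₀⟩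
  obtain ⟨hk01, hk02⟩ := ker_stalkMap i hU₀ hV₀ hs₀ (j u) hzU₀
  set ts := rs₀.map (algebraMap Γ(Z, U₀) (Z.presheaf.stalk (i (j u)))) with hts
  have hreg : IsRegular (Z.presheaf.stalk (i (j u))) ts :=
    isRegular_of_seq .regular (hU₀.primeIdealOf ⟨i (j u), hzU₀⟩).asIdeal rs₀
      (fun r hr => hk02 (by rw [hker₀]; exact Ideal.subset_span hr)) hrs₀ _
  have hts' : Ideal.ofList ts = RingHom.ker ((j ≫ i).stalkMap u).hom := by
    rw [hts, ← Ideal.map_ofList, ← hker₀, ← hk01, Scheme.Hom.stalkMap_comp, CommRingCat.hom_comp]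
    exact (RingHom.ker_comp_of_injective _ (ConcreteCategory.bijective_of_isIso (j.stalkMap u)).1).symm
  clear_value ts
  obtain ⟨W, hW, huW, hle⟩ := exists_isAffineOpen_mem_and_subset (x := (j ≫ i) u) (U := (j ≫ i).coborderRange)
    (subset_coborder ⟨u, rfl⟩)
  obtain ⟨hV, hs⟩ := KRLib.data_of_le_coborderRange (i := j ≫ i) hW hle
  haveI : IsNoetherianRing Γ(Z, W) := IsLocallyNoetherian.component_noetherian ⟨W, hW⟩
  letI := Z.presheaf.algebra_section_stalk (⟨(j ≫ i) u, huW⟩ : W)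
  let p := (hW.primeIdealOf ⟨(j ≫ i) u, huW⟩).asIdeal
  haveI : IsLocalization.AtPrime (Z.presheaf.stalk ((j ≫ i) u)) p := hW.isLocalization_stalk ⟨(j ≫ i) u, huW⟩
  obtain ⟨hk1, hk2⟩ := ker_stalkMap (j ≫ i) hW hV hs u huW
  obtain ⟨g, hg, hg'⟩ := exists_away_seq' .regular p (RingHom.ker ((j ≫ i).app W).hom) hk2
    (Z.presheaf.stalk ((j ≫ i) u)) ts hreg (hts'.trans hk1)
  obtain ⟨h1, h2, h3⟩ := KRLib.basicOpen_data (j ≫ i) hW hV hs g
  letI : Algebra Γ(Z, W) Γ(Z, Z.basicOpen g) :=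
    (Z.presheaf.map (homOfLE (Z.basicOpen_le g)).op).hom.toAlgebra
  haveI : IsLocalization.Away g Γ(Z, Z.basicOpen g) := hW.isLocalization_basicOpen g
  obtain ⟨rs', hlen', hrs', hI⟩ := hg' Γ(Z, Z.basicOpen g)
  refine ⟨⟨Z.basicOpen g, hW.basicOpen g⟩, ?_,
    (KRLib.isClosedImmersion_restrict_iff (j ≫ i) (hW.basicOpen g)).2 ⟨h1, h2⟩, rs',
    by rw [hlen', hts, List.length_map, hlen], hrs', h3.trans hI.symm⟩
  show (j ≫ i) u ∈ Z.basicOpen g
  rw [show (j ≫ i) u = hW.fromSpec (hW.primeIdealOf ⟨(j ≫ i) u, huW⟩) from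
    (hW.fromSpec_primeIdealOf ⟨(j ≫ i) u, huW⟩).symm]
  show hW.primeIdealOf ⟨(j ≫ i) u, huW⟩ ∈ hW.fromSpec ⁻¹ᵁ Z.basicOpen g
  rw [hW.fromSpec_preimage_basicOpen g]
  exact hg

variable [QuasiCompact j] [QuasiCompact i]

theorem det_conormal (hi : RegImm.IsRegularImmersionOfCodim RegImm.Kind.regular c i) {DC : X.Modules}
    (hDC : ExtPow.IsExtPow c (Omega.conormal i) DC) {LC : U.Modules}
    (hLC : ExtPow.IsExtPow c (Omega.conormal (j ≫ i)) LC) :
    Nonempty (LC ≅ (Scheme.Modules.pullback j).obj DC) := by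
  haveI := hi.1
  obtain ⟨V₀, hV₀, hV⟩ := i.isEmbedding.isInducing.isOpen_iff.1 j.opensRange.2
  let V : Z.Opens := ⟨V₀, hV₀⟩
  have hr : Set.range (j ≫ i) ⊆ Set.range V.ι := by
    rw [Scheme.Opens.range_ι, Scheme.Hom.comp_base, TopCat.coe_comp, Set.range_comp]
    rintro _ ⟨x, hx, rfl⟩
    exact (hV.ge hx : x ∈ i ⁻¹' V₀)
  let i' := IsOpenImmersion.lift V.ι (j ≫ i) hr
  have hi' : i' ≫ V.ι = j ≫ i := IsOpenImmersion.lift_fac _ _ _
  haveI : IsImmersion (i' ≫ V.ι) := by rw [hi']; infer_instance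
  haveI : IsImmersion i' := IsImmersion.of_comp i' V.ι
  haveI : QuasiCompact (i' ≫ V.ι) := by rw [hi']; infer_instance
  haveI : QuasiCompact i' := QuasiCompact.of_comp i' V.ι
  haveI : IsLocallyNoetherian (V : Scheme.{u}) := inferInstance
  haveI : IsLocallyNoetherian X := LocallyOfFiniteType.isLocallyNoetherian i
  haveI : IsLocallyNoetherian U := LocallyOfFiniteType.isLocallyNoetherian j
  haveI : SmoothOfRelativeDimension 0 V.ι := inferInstance
  have hji := regCodim_comp j i hi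
  have hsq : IsPullback i' j V.ι i := IsOpenImmersion.isPullback i' j V.ι i hi'.symm (Opens.ext (by
    show i ⁻¹' (Set.range V.ι) = Set.range j
    rw [Scheme.Opens.range_ι]
    exact hV))
  obtain ⟨φ, hφ, -⟩ := Groth.Agent.S9371.result i' i V.ι j hi'.symm
  haveI : IsIso φ := (Groth.Agent.S9372.result i' i V.ι j hsq φ hφ).2 inferInstance
  haveI : Coh.IsQCoh (Omega.conormal i) := (CurvLib.isCoh_of_locFree (RegConLib.rank_conormal hi)).1
  have hLB : ExtPow.IsExtPow c (Omega.conormal i') ((Scheme.Modules.pullback j).obj DC) :=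
    ExtPowLib.isExtPow_of_iso_left (asIso φ) (ExtPowLib.isExtPow_pullback j hDC)
  obtain ⟨-, h⟩ := RegConLib.side (j ≫ i) hji V.ι 0 i' hi' hLC (HodgePnLib.isExtPow_zero (Omega.sheaf V.ι))
  obtain ⟨a⟩ := h _ hLB
  refine CubeConsLib.cl_eq_iff.1 ?_
  rw [CubeConsLib.cl_eq_iff.2 ⟨a⟩, CubeConsLib.cl_tensor]
  have h1 : CubeConsLib.cl ((Scheme.Modules.pullback i').obj (Coh.structureModule (V : Scheme.{u}))) = 1 :=
    CubeConsLib.cl_eq_one_iff.2 ⟨KFlatLib.pullUnitIso i'⟩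
  rw [h1, one_mul]

end CanonRestrLib

namespace CanonRestrLib

/-- Canonical sheaves restrict to open subschemes. -/
theorem isCanonical_comp {U X Y : Scheme.{u}} [IsLocallyNoetherian Y] [IsLocallyNoetherian X] (j : U ⟶ X)
    [IsOpenImmersion j] [QuasiCompact j] {f : X ⟶ Y} {ω : X.Modules} (h : Canon.IsCanonical f ω) :
    Canon.IsCanonical (j ≫ f) ((Scheme.Modules.pullback j).obj ω) := by
  obtain ⟨Z, i, g, c, n, rfl, hi, hg, hqc, hqs, DC, DΩ, hDC, hDΩ, ⟨a⟩⟩ := h
  haveI := hqc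
  haveI := hi.1
  haveI := hg
  haveI : Smooth g := SmoothOfRelativeDimension.smooth n g
  haveI : IsLocallyNoetherian Z := LocallyOfFiniteType.isLocallyNoetherian g
  have hji := regCodim_comp j i hi
  haveI : IsLocallyNoetherian U := LocallyOfFiniteType.isLocallyNoetherian j
  haveI := hji.1
  obtain ⟨LC, hLC⟩ := ExtTopLib.exists_isExtPow (RegConLib.rank_conormal hji)
  obtain ⟨b⟩ := det_conormal j i hi hDC hLC
  refine ⟨Z, j ≫ i, g, c, n, Category.assoc _ _ _, hji, hg, inferInstance, hqs, LC, DΩ, hLC, hDΩ, ?_⟩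
  refine CubeConsLib.cl_eq_iff.1 ?_
  rw [CubeConsLib.cl_tensor, CubeConsLib.cl_eq_iff.2 ⟨b⟩, ← CubeConsLib.pull_cl, ← CubeConsLib.pull_cl, ← map_mul,
    ← CubeConsLib.cl_tensor, CubeConsLib.cl_eq_iff.2 ⟨a⟩, ← CubeConsLib.pull_cl, ← CubeConsLib.pull_cl,
    CubeConsLib.pull_comp]

/-- Canonical sheaves are unique up to isomorphism. -/
theorem nonempty_iso {X Y : Scheme.{u}} [IsLocallyNoetherian Y] [IsLocallyNoetherian X] {f : X ⟶ Y} {ω ω' : X.Modules}
    (h : Canon.IsCanonical f ω) (h' : Canon.IsCanonical f ω') : Nonempty (ω ≅ ω') := by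
  obtain ⟨Z, i, g, c, n, e, hi, hg, hqc, hqs, hv⟩ := h
  obtain ⟨Z', i', g', c', n', e', hi', hg', hqc', hqs', hv'⟩ := h'
  haveI := hg; haveI := hg'; haveI := hqc; haveI := hqc'; haveI := hqs; haveI := hqs'
  haveI : Smooth g := SmoothOfRelativeDimension.smooth n g
  haveI : Smooth g' := SmoothOfRelativeDimension.smooth n' g'
  haveI : IsLocallyNoetherian Z := LocallyOfFiniteType.isLocallyNoetherian g
  haveI : IsLocallyNoetherian Z' := LocallyOfFiniteType.isLocallyNoetherian g'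
  exact RegConLib.canonical_pair i g i' g' (e.trans e'.symm) hi hi' hv hv'

end CanonRestrLib
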